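import Cfsg.Agent.Layer.Local

/-!
# Self-central normalisers of subgroups 
(the argument of `Layer.pCoreSelfCentral_normalizer_of_centralizers`, for one overgroup of `C(T)`)
-/

set_option autoImplicit false
set_option linter.unusedSectionVars false

open Cfsg Subgroup

namespace Cfsg.Agent.CharTwo

open Layer

variable {G : Type*} [Group G] {p : ℕ}

/-- If a subgroup `C` containing `T` and `C(T)` has characteristic `p`, so does the normaliser of
the `p`-group `T`. -/
theorem pCoreSelfCentral_normalizer_of_le [Finite G] [hp : Fact p.Prime] {C : Subgroup G}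
    (h : PCoreSelfCentral p ↥C) {T : Subgroup G} (hT : IsPGroup p T) (hTC : T ≤ C)
    (hCT : centralizer (T : Set G) ≤ C) :
    PCoreSelfCentral p ↥(normalizer (T : Set G)) := by
  set M := normalizer (T : Set G) with hM
  refine subnormal_le_pCore (Subgroup.Normal.isSubnormal inferInstance) ?_
  by_contra hne
  obtain ⟨q, hq, hq1, hqo⟩ := exists_coprime_orderOf hne
  refine hq1 (Subtype.ext ?_)
  have hqc : ∀ x ∈ (pCore p ↥M).map M.subtype, x * (q : G) = q * x := by
    rintro _ ⟨y, hy, rfl⟩
    exact congrArg Subtype.val (mem_centralizer_iff.mp hq y hy)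
  have hqT : (q : G) ∈ centralizer (T : Set G) :=
    mem_centralizer_iff.mpr fun x hx => hqc x (le_pCore_normalizer hT hx)
  have hqC : (q : G) ∈ C :=
    hCT hqT
  have h1 : (⟨(q : G), hqC⟩ : ↥C) = 1 := by
    refine eq_one_of_centralizes h (P := T.subgroupOf C)
      (hT.comap_of_injective _ C.subtype_injective) ?_ ?_ ?_
    · rwa [← orderOf_injective C.subtype C.subtype_injective,
        show C.subtype ⟨(q : G), hqC⟩ = M.subtype q from rfl, orderOf_injective M.subtype M.subtype_injective]
    · exact mem_centralizer_iff.mpr fun x hx => Subtype.ext (mem_centralizer_iff.mp hqT (x : G) hx)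
    · refine mem_centralizer_iff.mpr fun x hx => Subtype.ext (hqc x ?_)
      set X := (pCore p ↥C ⊓ centralizer (T.subgroupOf C : Set ↥C)).map C.subtype with hX
      have hXZ : X ≤ centralizer (T : Set G) := by
        rintro _ ⟨y, hy, rfl⟩
        exact mem_centralizer_iff.mpr fun a ha =>
          congrArg Subtype.val (mem_centralizer_iff.mp hy.2 (⟨a, hTC ha⟩ : ↥C) ha)
      have hXn : centralizer (T : Set G) ≤ normalizer (X : Set G) := by
        refine Subgroup.le_normalizer_iff.mpr ?_
        rintro c hc _ ⟨y, hy, rfl⟩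
        have hcC : c ∈ C := hCT hc
        refine ⟨⟨c, hcC⟩ * y * ⟨c, hcC⟩⁻¹, ⟨Core.pCore_normal.conj_mem y hy.1 _, ?_⟩, rfl⟩
        have hcc : (⟨c, hcC⟩ : ↥C) ∈ centralizer (T.subgroupOf C : Set ↥C) :=
          mem_centralizer_iff.mpr fun a ha => Subtype.ext (mem_centralizer_iff.mp hc (a : G) ha)
        exact Subgroup.mul_mem _ (Subgroup.mul_mem _ hcc hy.2) (Subgroup.inv_mem _ hcc)
      have hXp : IsPGroup p ↥X := (Core.pCore_isPGroup.to_le inf_le_left).map _
      have hXM : X ≤ M := hXZ.trans (centralizer_le_normalizer _)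
      have hZsn : ((centralizer (T : Set G)).subgroupOf M).IsSubnormal :=
        ((normal_subgroupOf_iff_le_normalizer (centralizer_le_normalizer _)).mpr
          (Coprime.le_normalizer_centralizer le_rfl)).isSubnormal
      have hXsn : (X.subgroupOf M).IsSubnormal := by
        refine Subgroup.IsSubnormal.step _ _ (fun y hy => hXZ hy) hZsn ?_
        refine ⟨fun y hy c => ?_⟩
        exact (Subgroup.le_normalizer_iff.mp hXn) ((c : ↥M) : G) c.2 _ hy
      exact ⟨⟨(x : G), hXM ⟨x, hx, rfl⟩⟩,
        subnormal_le_pCore hXsn (hXp.comap_of_injective _ M.subtype_injective) ⟨x, hx, rfl⟩, rfl⟩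
  exact congrArg (fun y : ↥C => (y : G)) h1

/-- If a `p`-group meets the centre of a `p`-element's centraliser of characteristic `p` in that
element, then its normaliser has characteristic `p`. -/
theorem pCoreSelfCentral_normalizer_of_mem [Finite G] [hp : Fact p.Prime] {z : G}
    (h : PCoreSelfCentral p ↥(centralizer ({z} : Set G)))
    {U : Subgroup G} (hU : IsPGroup p U) (hzU : z ∈ U) :
    PCoreSelfCentral p ↥(normalizer (U : Set G)) := by
  suffices ∀ k, ∀ V : Subgroup G, V ≤ U → Nat.card U - Nat.card V = k →
      PCoreSelfCentral p ↥(normalizer (V : Set G)) → PCoreSelfCentral p ↥(normalizer (U : Set G)) by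
    have hz : zpowers z ≤ U := zpowers_le.2 hzU
    refine this _ (zpowers z) hz rfl (pCoreSelfCentral_normalizer_of_le h (hU.to_le hz) ?_ ?_)
    · exact zpowers_le.2 (mem_centralizer_singleton_iff.2 rfl)
    · rw [zpowers_eq_closure, centralizer_closure]
  intro k
  induction k using Nat.strong_induction_on with
  | _ k ih =>
    intro V hV hk hsc
    by_cases heq : V = U
    · rwa [heq] at hsc
    haveI : Group.IsNilpotent U := hU.isNilpotent
    have hlt : V.subgroupOf U < ⊤ := lt_top_iff_ne_top.2 fun e =>
      heq (le_antisymm hV (subgroupOf_eq_top.1 e))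
    have hW := Group.normalizerCondition_of_isNilpotent _ hlt
    rw [← subgroupOf_normalizer_eq hV] at hW
    set W := U ⊓ normalizer (V : Set G) with hWdef
    have hVW : V < W := by
      refine lt_of_le_not_ge (le_inf hV le_normalizer) fun hle => ?_
      exact not_le_of_gt hW fun x hx => hle ⟨x.2, hx⟩
    have hcard : Nat.card V < Nat.card W := Core.card_lt_of_lt hVW
    have hWU : Nat.card W ≤ Nat.card U := Subgroup.card_le_of_le inf_le_left
    refine ih _ (by omega) W inf_le_left rfl
      (pCoreSelfCentral_normalizer_of_le hsc (hU.to_le inf_le_left) inf_le_right ?_)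
    exact (centralizer_le hVW.le).trans (centralizer_le_normalizer _)

end Cfsg.Agent.CharTwo
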